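/-
Coprime action of an elementary abelian p-group: some hyperplane has nontrivial fixed points.
-/
import Mathlib

set_option autoImplicit false

namespace CfsgLib.Generation

variable {G : Type*} [Group G] [Finite G]

/-- An elementary abelian `p`-group `U` acting on a nontrivial group `R` of order prime to `p`: some maximal
subgroup of `U` fixes a nontrivial element of `R`. -/
lemma exists_coatom_fixed {p : ℕ} [hp : Fact p.Prime] {U R : Subgroup G}
    (hUab : IsMulCommutative U) (hUexp : ∀ a ∈ U, a ^ p = 1) (hU1 : U ≠ ⊥)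
    (hUR : U ≤ Subgroup.normalizer (R : Set G)) (hR : (Nat.card R).Coprime p) (hR1 : R ≠ ⊥) :
    ∃ U₀ : Subgroup G, U₀ ≤ U ∧ IsCoatom (U₀.subgroupOf U) ∧
      R ⊓ Subgroup.centralizer (U₀ : Set G) ≠ ⊥ := by
  classical
  -- an invariant Sylow subgroup of `R`
  obtain ⟨q, hq, hqd⟩ := Nat.exists_prime_and_dvd (fun h => hR1 (Subgroup.card_eq_one.1 h))
  have : Fact q.Prime := ⟨hq⟩
  obtain ⟨S₀⟩ := (inferInstance : Nonempty (Sylow q ↥R))
  let Sl := {S : Subgroup G // ∃ Q : Sylow q ↥R, (Q : Subgroup ↥R).map R.subtype = S}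
  have hconj : ∀ (u : ↥U) (S : Sl), ∃ Q : Sylow q ↥R,
      (Q : Subgroup ↥R).map R.subtype = (S : Subgroup G).map (MulAut.conj (u : G)).toMonoidHom := by
    rintro u ⟨S, Q, rfl⟩
    let e : R ≃* R := ((MulAut.conj (u : G)).subgroupMap R).trans
      (MulEquiv.subgroupCongr (Subgroup.mem_normalizer_iff_map_conj_eq.1 (hUR u.2)))
    have hse : Function.Surjective e.toMonoidHom := e.surjective
    refine ⟨Q.mapSurjective hse, ?_⟩
    rw [Sylow.coe_mapSurjective, Subgroup.map_map, Subgroup.map_map]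
    congr 1
  let act : ↥U → Sl → Sl := fun u S => ⟨_, hconj u S⟩
  letI : MulAction ↥U Sl :=
    { smul := act
      one_smul := fun S => Subtype.ext (by
        show (S : Subgroup G).map (MulAut.conj ((1 : ↥U) : G)).toMonoidHom = S
        rw [OneMemClass.coe_one, map_one]; exact Subgroup.map_id _)
      mul_smul := fun u v S => Subtype.ext (by
        show (S : Subgroup G).map (MulAut.conj ((u * v : ↥U) : G)).toMonoidHom =
          ((S : Subgroup G).map (MulAut.conj (v : G)).toMonoidHom).map (MulAut.conj (u : G)).toMonoidHom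
        rw [Subgroup.map_map, Subgroup.coe_mul, map_mul]; congr 1) }
  have hcardSl : Nat.card (Sylow q ↥R) = Nat.card Sl := by
    refine Nat.card_eq_of_bijective (fun Q => (⟨_, Q, rfl⟩ : Sl)) ⟨fun Q Q' h => ?_, ?_⟩
    · exact Sylow.ext (Subgroup.map_injective R.subtype_injective (congrArg Subtype.val h))
    · rintro ⟨S, Q, rfl⟩; exact ⟨Q, rfl⟩
  have hnp : ¬ p ∣ Nat.card Sl := fun h => by
    have h1 : p ∣ Nat.card R := h.trans (hcardSl ▸ S₀.card_dvd_index.trans (Subgroup.index_dvd_card _))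
    exact (Nat.Prime.coprime_iff_not_dvd hp.out).1 hR.symm h1
  obtain ⟨⟨S, Q, rfl⟩, hfix⟩ := IsPGroup.nonempty_fixed_point_of_prime_not_dvd_card
    (show IsPGroup p ↥U from fun a => ⟨1, Subtype.ext (by simpa using hUexp a a.2)⟩) Sl hnp
  -- its centre, and a minimal invariant subgroup there
  set Z : Subgroup G := ((Subgroup.center ↥(Q : Subgroup ↥R)).map (Q : Subgroup ↥R).subtype).map R.subtype with hZ
  set S := (Q : Subgroup ↥R).map R.subtype with hS
  have hZ' : Z = S ⊓ Subgroup.centralizer (S : Set G) := by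
    ext z
    constructor
    · rintro ⟨_, ⟨a, ha, rfl⟩, rfl⟩
      refine ⟨⟨_, a.2, rfl⟩, Subgroup.mem_centralizer_iff.2 ?_⟩
      rintro _ ⟨b, hb, rfl⟩
      exact congrArg (fun w : ↥(Q : Subgroup ↥R) => ((w : ↥R) : G)) (Subgroup.mem_center_iff.1 ha ⟨b, hb⟩)
    · rintro ⟨⟨a, ha, rfl⟩, hc⟩
      refine ⟨a, ⟨⟨a, ha⟩, Subgroup.mem_center_iff.2 fun b => ?_, rfl⟩, rfl⟩
      exact Subtype.ext (Subtype.ext (Subgroup.mem_centralizer_iff.1 hc _ ⟨b, b.2, rfl⟩))
  have hS1 : S ≠ ⊥ := by
    intro h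
    have h1 : Nat.card (Q : Subgroup ↥R) = 1 := by
      rw [← Subgroup.card_subtype R, ← hS, h, Subgroup.card_bot]
    have h2 := Q.dvd_card_of_dvd_card hqd
    rw [h1] at h2
    exact hq.not_dvd_one h2
  have hZ1 : Z ≠ ⊥ := by
    intro h
    have : Nontrivial ↥(Q : Subgroup ↥R) := by
      rw [Subgroup.nontrivial_iff_ne_bot]
      exact fun hb => hS1 (by rw [hS, hb, Subgroup.map_bot])
    have h3 := Q.2.center_nontrivial
    rw [Subgroup.nontrivial_iff_ne_bot] at h3
    refine h3 ((Subgroup.map_eq_bot_iff_of_injective _ (Subgroup.subtype_injective _)).1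
      ((Subgroup.map_eq_bot_iff_of_injective _ R.subtype_injective).1 h))
  have hUS : U ≤ Subgroup.normalizer (S : Set G) := fun u hu =>
    Subgroup.mem_normalizer_iff_map_conj_eq.2 (congrArg Subtype.val (hfix ⟨u, hu⟩))
  have hUZ : U ≤ Subgroup.normalizer (Z : Set G) := by
    intro u hu
    rw [Subgroup.mem_normalizer_iff_map_conj_eq]
    show Z.map (MulAut.conj u).toMonoidHom = Z
    have e : S.map (MulAut.conj u).toMonoidHom = S := Subgroup.mem_normalizer_iff_map_conj_eq.1 (hUS hu)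
    refine Subgroup.eq_of_le_of_card_ge ?_ (le_of_eq (Subgroup.card_map_of_injective (MulEquiv.injective _)).symm)
    rw [hZ', Subgroup.map_inf _ _ _ (MulEquiv.injective _), e]
    refine inf_le_inf_left _ ((Subgroup.map_centralizer_le_centralizer_image _ _).trans (Subgroup.centralizer_le ?_))
    intro s hs
    rw [← e] at hs
    exact hs
  obtain ⟨W, ⟨hW1, hWZ, hUW⟩, hWmin⟩ := (inferInstance : WellFoundedLT (Subgroup G)).wf.has_min
    {W | W ≠ ⊥ ∧ W ≤ Z ∧ U ≤ Subgroup.normalizer (W : Set G)} ⟨Z, hZ1, le_rfl, hUZ⟩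
  have hWR : W ≤ R := hWZ.trans (Subgroup.map_subtype_le _)
  have hWab : IsMulCommutative W := ⟨⟨fun a b => Subtype.ext <| by
    have ha : (a : G) ∈ S ⊓ Subgroup.centralizer (S : Set G) := hZ' ▸ hWZ a.2
    have hb : (b : G) ∈ S ⊓ Subgroup.centralizer (S : Set G) := hZ' ▸ hWZ b.2
    exact Subgroup.mem_centralizer_iff.1 hb.2 _ ha.1⟩⟩
  -- an element of `U` centralizes `W` or has no fixed points there
  have hfree : ∀ u ∈ U, ∀ w ∈ W, u * w = w * u → w ≠ 1 → u ∈ Subgroup.centralizer (W : Set G) := by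
    intro u hu w hw huw hw1
    set W' := W ⊓ Subgroup.centralizer ({u} : Set G) with hW'
    have h1 : W' ≠ ⊥ := fun h => hw1 <| by
      have : w ∈ W' := ⟨hw, Subgroup.mem_centralizer_singleton_iff.2 huw.symm⟩
      rwa [h, Subgroup.mem_bot] at this
    have h2 : U ≤ Subgroup.normalizer (W' : Set G) := by
      intro a ha
      refine Subgroup.mem_normalizer_iff_map_conj_eq.2 ?_
      show W'.map (MulAut.conj a).toMonoidHom = W'
      have e : W.map (MulAut.conj a).toMonoidHom = W := Subgroup.mem_normalizer_iff_map_conj_eq.1 (hUW ha)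
      refine Subgroup.eq_of_le_of_card_ge ?_ (le_of_eq (Subgroup.card_map_of_injective (MulEquiv.injective _)).symm)
      rintro _ ⟨x, hx, rfl⟩
      refine ⟨(Subgroup.mem_normalizer_iff.1 (hUW ha) x).1 hx.1, Subgroup.mem_centralizer_singleton_iff.2 ?_⟩
      have c1 : Commute a u := congrArg Subtype.val (hUab.is_comm.comm ⟨a, ha⟩ ⟨u, hu⟩)
      have c2 : Commute x u := Subgroup.mem_centralizer_singleton_iff.1 hx.2
      exact ((c1.mul_left c2).mul_left c1.inv_left).eq
    by_contra hnot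
    refine hWmin W' ⟨h1, inf_le_left.trans hWZ, h2⟩ (lt_of_le_of_ne inf_le_left fun h => hnot ?_)
    exact Subgroup.mem_centralizer_iff.2 fun y hy => Subgroup.mem_centralizer_singleton_iff.1 (h ▸ hy : y ∈ W').2
  set K := U ⊓ Subgroup.centralizer (W : Set G) with hK
  have hcen : ∀ U₀ ≤ K, R ⊓ Subgroup.centralizer (U₀ : Set G) ≠ ⊥ := by
    intro U₀ h0 h
    refine hW1 (le_bot_iff.1 (h ▸ le_inf hWR fun w hw => Subgroup.mem_centralizer_iff.2 fun u hu => ?_))
    exact (Subgroup.mem_centralizer_iff.1 (h0 hu).2 w hw).symm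
  by_cases hKU : K = U
  · have : Nontrivial ↥U := (Subgroup.nontrivial_iff_ne_bot U).2 hU1
    obtain ⟨C, hC, -⟩ := (eq_top_or_exists_le_coatom (⊥ : Subgroup ↥U)).resolve_left bot_ne_top
    refine ⟨C.map U.subtype, Subgroup.map_subtype_le _, ?_, hcen _ ((Subgroup.map_subtype_le _).trans hKU.ge)⟩
    rwa [Subgroup.subgroupOf, Subgroup.comap_map_eq_self_of_injective U.subtype_injective]
  refine ⟨K, inf_le_left, ⟨fun h => hKU (le_antisymm inf_le_left (Subgroup.subgroupOf_eq_top.1 h)), ?_⟩, hcen K le_rfl⟩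
  intro L hL
  obtain ⟨⟨a, haU⟩, haL, haK⟩ := SetLike.exists_of_lt hL
  have haK' : a ∉ Subgroup.centralizer (W : Set G) := fun h => haK ⟨haU, h⟩
  -- conjugation on `W`
  let φ : U → (W →* W) := fun u =>
    { toFun := fun w => ⟨u * w * (u : G)⁻¹, (Subgroup.mem_normalizer_iff.1 (hUW u.2) w).1 w.2⟩
      map_one' := Subtype.ext (by simp)
      map_mul' := fun v w => Subtype.ext (by simp [mul_assoc]) }
  have hφ : ∀ u v w, φ (u * v) w = φ u (φ v w) := fun u v w => Subtype.ext (by simp [φ, mul_assoc])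
  letI : CommGroup W := { (inferInstance : Group W) with mul_comm := fun a b => hWab.is_comm.comm a b }
  have hnorm : ∀ u : U, (u : G) ∉ Subgroup.centralizer (W : Set G) → ∀ w,
      ∏ i ∈ Finset.range p, φ (u ^ i) w = 1 := by
    intro u hu w
    by_contra hne
    apply hu
    refine hfree u u.2 _ (∏ i ∈ Finset.range p, φ (u ^ i) w).2 ?_ (fun h => hne (Subtype.ext h))
    have hup : u ^ p = 1 := Subtype.ext (by simpa using hUexp u u.2)
    have h1 : φ u (∏ i ∈ Finset.range p, φ (u ^ i) w) = ∏ i ∈ Finset.range p, φ (u ^ i) w := by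
      rw [map_prod]
      simp only [← hφ, ← pow_succ']
      obtain ⟨k, hk⟩ := Nat.exists_eq_succ_of_ne_zero hp.out.ne_zero
      rw [hk] at hup ⊢
      rw [Finset.prod_range_succ' (fun i => φ (u ^ i) w), Finset.prod_range_succ (fun i => φ (u ^ (i + 1)) w),
        pow_zero, hup]
    exact mul_inv_eq_iff_eq_mul.1 (congrArg Subtype.val h1)
  rw [eq_top_iff]
  rintro ⟨b, hbU⟩ -
  obtain ⟨j, hj⟩ : ∃ j : ℕ, b * a ^ j ∈ Subgroup.centralizer (W : Set G) := by
    by_contra h
    push Not at h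
    obtain ⟨w₀, hw₀, hw₁⟩ := W.bot_or_exists_ne_one.resolve_left hW1
    set w : W := ⟨w₀, hw₀⟩
    set A : U := ⟨a, haU⟩
    set B : U := ⟨b, hbU⟩
    have h1 : ∀ i ∈ Finset.range p, ∏ j ∈ Finset.range p, φ ((B * A ^ j) ^ i) w =
        if i = 0 then w ^ p else 1 := by
      intro i hi
      split_ifs with hi0
      · subst hi0
        have : φ 1 w = w := Subtype.ext (by simp [φ])
        simp [this]
      · have hcomm : ∀ x y : U, x * y = y * x := hUab.is_comm.comm
        have e : ∀ j : ℕ, φ ((B * A ^ j) ^ i) w = φ (B ^ i) (φ ((A ^ i) ^ j) w) := fun j => by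
          rw [← hφ, Commute.mul_pow (hcomm B (A ^ j)), ← pow_mul, ← pow_mul, mul_comm j i]
        simp only [e]
        rw [← map_prod, hnorm (A ^ i) ?_ w, map_one]
        intro hc
        apply haK'
        obtain ⟨m, hm⟩ := exists_pow_eq_self_of_coprime (x := A) (n := i) <| by
          rw [orderOf_eq_prime (Subtype.ext (by simpa using hUexp a haU))
            (fun hA : A = 1 => haK' (by
              have h0 : a = 1 := congrArg Subtype.val hA
              rw [h0]; exact Subgroup.one_mem _))]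
          exact ((Nat.Prime.coprime_iff_not_dvd hp.out).2 fun hd =>
            hi0 (Nat.eq_zero_of_dvd_of_lt hd (Finset.mem_range.1 hi))).symm
        have := Subgroup.pow_mem _ hc m
        rw [← SubgroupClass.coe_pow, hm] at this
        exact this
    have h2 : w ^ p = 1 := by
      have h3 := Finset.prod_congr rfl h1
      rw [Finset.prod_comm, Finset.prod_eq_one fun j _ => hnorm (B * A ^ j) (by simpa [A, B] using h j) w,
        Finset.prod_ite_eq' (Finset.range p) 0 (fun _ => w ^ p), if_pos (Finset.mem_range.2 hp.out.pos)] at h3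
      exact h3.symm
    refine hw₁ (orderOf_eq_one_iff.1 (Nat.eq_one_of_dvd_coprimes hR ?_ ?_))
    · exact Subgroup.orderOf_dvd_natCard R (hWR hw₀)
    · exact orderOf_dvd_of_pow_eq_one (congrArg Subtype.val h2)
  have hbK : (⟨b * a ^ j, U.mul_mem hbU (U.pow_mem haU j)⟩ : U) ∈ L :=
    hL.le ⟨U.mul_mem hbU (U.pow_mem haU j), hj⟩
  have h := L.mul_mem hbK (L.inv_mem (L.pow_mem haL j))
  have e : (⟨b, hbU⟩ : U) = ⟨b * a ^ j, U.mul_mem hbU (U.pow_mem haU j)⟩ * ((⟨a, haU⟩ : U) ^ j)⁻¹ :=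
    Subtype.ext (by simp)
  rw [e]; exact h

end CfsgLib.Generation
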