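/-
A transfer argument for a maximal subgroup M with a normal subgroup H of prime index
(Flavell's generation lemma).
-/
import Mathlib

set_option autoImplicit false

namespace CfsgLib.Generation

variable {G : Type*} [Group G]

lemma map_conj_map_conj (H : Subgroup G) (a b : G) :
    (H.map (MulAut.conj b).toMonoidHom).map (MulAut.conj a).toMonoidHom =
      H.map (MulAut.conj (a * b)).toMonoidHom := by
  rw [Subgroup.map_map]
  congr 1
  ext y
  simp [mul_assoc]

/-- If every element of `M \ H` lies in no conjugate of `M` other than `M` itself (in the element-wise form),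
then the normal closure of `H` is proper. -/
lemma normalClosure_ne_top_of_ti [Finite G] {H M : Subgroup G} (hHn : (H.subgroupOf M).Normal)
    (hHM : H ≤ M) (hq : (H.relIndex M).Prime)
    (hti : ∀ m ∈ M, m ∉ H → ∀ g : G, g⁻¹ * m * g ∈ M → g ∈ M) :
    Subgroup.normalClosure (H : Set G) ≠ ⊤ := by
  classical
  intro htop
  have : Fact (H.relIndex M).Prime := ⟨hq⟩
  have hcard : Nat.card (↥M ⧸ H.subgroupOf M) = H.relIndex M := rfl
  have : IsCyclic (↥M ⧸ H.subgroupOf M) := isCyclic_of_prime_card hcard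
  letI : CommGroup (↥M ⧸ H.subgroupOf M) := IsCyclic.commGroup
  let φ : ↥M →* ↥M ⧸ H.subgroupOf M := QuotientGroup.mk' _
  have hφ : ∀ a : ↥M, φ a = 1 ↔ (a : G) ∈ H := fun a =>
    (QuotientGroup.eq_one_iff a).trans Subgroup.mem_subgroupOf
  let V := MonoidHom.transfer φ
  letI := Fintype.ofFinite (G ⧸ M)
  have hHV : H ≤ V.ker := by
    intro y hy
    rw [MonoidHom.mem_ker, MonoidHom.transfer_eq_prod_quotient_orbitRel_zpowers_quot]
    refine Finset.prod_eq_one fun q _ => (hφ _).2 ?_
    set n := Function.minimalPeriod (y • ·) q.out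
    set g := q.out.out
    have hM : g⁻¹ * y ^ n * g ∈ M := QuotientGroup.out_conj_pow_minimalPeriod_mem M y q.out
    by_contra hnot
    have hgM : g ∈ M := M.inv_mem_iff.1 <| hti _ hM hnot g⁻¹ (by
      simpa [mul_assoc] using hHM (H.pow_mem hy n))
    exact hnot <| by
      have := hHn.conj_mem ⟨y ^ n, hHM (H.pow_mem hy n)⟩ (H.pow_mem hy n) ⟨g⁻¹, M.inv_mem hgM⟩
      simpa [Subgroup.mem_subgroupOf] using this
  have hker : V.ker = ⊤ := top_le_iff.1 (htop ▸ Subgroup.normalClosure_le_normal hHV)
  obtain ⟨m, hmM, hmH⟩ : ∃ m ∈ M, m ∉ H := by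
    by_contra h
    push Not at h
    exact hq.ne_one (Subgroup.relIndex_eq_one.2 h)
  have hV : V m = 1 := by rw [← MonoidHom.mem_ker, hker]; exact Subgroup.mem_top m
  rw [MonoidHom.transfer_eq_prod_quotient_orbitRel_zpowers_quot,
    Fintype.prod_eq_single (Quotient.mk'' ((1 : G) : G ⧸ M))] at hV
  · set q : Quotient (MulAction.orbitRel (Subgroup.zpowers m) (G ⧸ M)) :=
      Quotient.mk'' ((1 : G) : G ⧸ M) with hq'
    have hfix : m • ((1 : G) : G ⧸ M) = ((1 : G) : G ⧸ M) := by
      rw [MulAction.Quotient.smul_coe, QuotientGroup.eq]; simpa using M.inv_mem hmM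
    have hout : q.out = ((1 : G) : G ⧸ M) := by
      have h := Quotient.mk_out (s := MulAction.orbitRel (Subgroup.zpowers m) (G ⧸ M)) ((1 : G) : G ⧸ M)
      obtain ⟨⟨z, k, rfl⟩, hk⟩ := h
      rw [hq', ← show _ = _ from hk]
      exact (MulAction.mem_stabilizer_iff.1 (zpow_mem (MulAction.mem_stabilizer_iff.2 hfix) k))
    have hg : (q.out.out : G) ∈ M := by
      have : ((q.out.out : G) : G ⧸ M) = ((1 : G) : G ⧸ M) := by rw [QuotientGroup.out_eq', hout]
      have h1 := M.inv_mem (QuotientGroup.eq.1 this)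
      simpa using h1
    have hper : Function.minimalPeriod (m • ·) q.out = 1 := by
      rw [Function.minimalPeriod_eq_one_iff_isFixedPt, hout]; exact hfix
    rw [hφ] at hV
    simp only [hper, pow_one] at hV
    have := hHn.conj_mem ⟨_, hHM hV⟩ hV ⟨_, hg⟩
    exact hmH (by simpa [Subgroup.mem_subgroupOf, mul_assoc] using this)
  · intro q hqne
    rw [hφ]
    by_contra hnot
    set n := Function.minimalPeriod (m • ·) q.out
    set g := q.out.out
    have hM : g⁻¹ * m ^ n * g ∈ M := QuotientGroup.out_conj_pow_minimalPeriod_mem M m q.out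
    have hmn : m ^ n ∈ M := M.pow_mem hmM n
    have hgM : g ∈ M := M.inv_mem_iff.1 <| hti _ hM hnot g⁻¹ (by simpa [mul_assoc] using hmn)
    apply hqne
    have : q.out = ((1 : G) : G ⧸ M) := by
      rw [← QuotientGroup.out_eq' q.out, QuotientGroup.eq]
      simpa using hgM
    rw [← this, Quotient.out_eq']

/-- Flavell's lemma: conditions under which the normal closure of `H` is proper. -/
lemma normalClosure_ne_top [Finite G] {H M : Subgroup G} (hHM : H ≤ M) (hHn : (H.subgroupOf M).Normal)
    (hq : (H.relIndex M).Prime) (hmaxM : IsCoatom M)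
    (hcl : ∀ g : G, g ∉ M → (H ⊔ H.map (MulAut.conj g).toMonoidHom) ⊓ M = H) :
    Subgroup.normalClosure (H : Set G) ≠ ⊤ := by
  intro htop
  have hHne : H ≠ M := fun h => hq.ne_one (by rw [h, Subgroup.relIndex_self])
  have hnorm : M ≤ Subgroup.normalizer (H : Set G) :=
    Subgroup.le_normalizer_of_normal_subgroupOf hHM
  refine normalClosure_ne_top_of_ti hHn hHM hq (fun m hm hmH g hg => ?_) htop
  by_contra hgM
  set L := H ⊔ H.map (MulAut.conj g).toMonoidHom with hL
  have hgn : g ∉ Subgroup.normalizer (H : Set G) := fun hgN => by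
    rcases hmaxM.le_iff.1 hnorm with h | h
    · rw [Subgroup.normalizer_eq_top_iff] at h
      exact hHne (le_antisymm hHM (le_top.trans (htop ▸ Subgroup.normalClosure_le_normal (subset_refl _))))
    · exact hgM (h ▸ hgN)
  have hmL : m ∈ Subgroup.normalizer (L : Set G) := by
    refine Subgroup.mem_normalizer_iff_map_conj_eq.2 ?_
    show L.map (MulAut.conj m).toMonoidHom = L
    rw [hL, Subgroup.map_sup]
    have e1 : H.map (MulAut.conj m).toMonoidHom = H := Subgroup.mem_normalizer_iff_map_conj_eq.1 (hnorm hm)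
    have e2 : H.map (MulAut.conj (g⁻¹ * m * g)).toMonoidHom = H :=
      Subgroup.mem_normalizer_iff_map_conj_eq.1 (hnorm hg)
    rw [e1]
    congr 1
    rw [map_conj_map_conj, show m * g = g * (g⁻¹ * m * g) by group, ← map_conj_map_conj, e2]
  have hK : L ⊔ Subgroup.zpowers m = ⊤ := by
    have h1 : M ≤ L ⊔ Subgroup.zpowers m := by
      have hlt : H < M ⊓ (L ⊔ Subgroup.zpowers m) := by
        refine lt_of_le_of_ne (le_inf hHM (le_sup_left.trans le_sup_left)) fun h => hmH ?_
        rw [h]; exact ⟨hm, Subgroup.mem_sup_right (Subgroup.mem_zpowers m)⟩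
      have hd : (M ⊓ (L ⊔ Subgroup.zpowers m)).relIndex M ∣ H.relIndex M := Subgroup.relIndex_dvd_of_le_left _ hlt.le
      rcases hq.eq_one_or_self_of_dvd _ hd with h | h
      · exact (Subgroup.relIndex_eq_one.1 h).trans inf_le_right
      · exfalso
        have h2 := Subgroup.relIndex_mul_relIndex H (M ⊓ (L ⊔ Subgroup.zpowers m)) M hlt.le inf_le_left
        rw [h] at h2
        exact hlt.not_ge (Subgroup.relIndex_eq_one.1 ((mul_eq_right₀ hq.ne_zero).1 h2))
    rcases hmaxM.le_iff.1 h1 with h | h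
    · exact h
    · exfalso
      have hLM : L ≤ M := h ▸ le_sup_left
      have h3 := hcl g hgM
      rw [inf_eq_left.2 hLM] at h3
      apply hgn
      refine Subgroup.mem_normalizer_iff_map_conj_eq.2 (Subgroup.eq_of_le_of_card_ge ?_
        (le_of_eq (Subgroup.card_map_of_injective (MulEquiv.injective _)).symm))
      exact le_sup_right.trans (le_of_eq h3)
  have hLN : L.Normal := by
    rw [← Subgroup.normalizer_eq_top_iff, eq_top_iff, ← hK]
    exact sup_le Subgroup.le_normalizer ((Subgroup.zpowers_le).2 hmL)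
  have hLtop : (⊤ : Subgroup G) ≤ L := htop ▸ Subgroup.normalClosure_le_normal (le_sup_left : H ≤ L)
  have h3 := hcl g hgM
  rw [inf_eq_right.2 (le_top.trans hLtop)] at h3
  exact hHne h3.symm

end CfsgLib.Generation

namespace CfsgLib.Generation

lemma relIndex_prime_of_isCoatom {G : Type*} [Group G] [Finite G] {H M : Subgroup G}
    (hHn : (H.subgroupOf M).Normal) (hmax : IsCoatom (H.subgroupOf M)) : (H.relIndex M).Prime := by
  set π := QuotientGroup.mk' (H.subgroupOf M)
  have hne : Nat.card (↥M ⧸ H.subgroupOf M) ≠ 1 := fun h => hmax.1 (Subgroup.index_eq_one.1 h)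
  obtain ⟨q, hq, hqd⟩ := Nat.exists_prime_and_dvd hne
  have : Fact q.Prime := ⟨hq⟩
  obtain ⟨a, ha⟩ := exists_prime_orderOf_dvd_card' q hqd
  have hcase := hmax.le_iff.1 (QuotientGroup.le_comap_mk' (H.subgroupOf M) (Subgroup.zpowers a))
  have h1 : Subgroup.zpowers a = ⊤ := by
    rcases hcase with h | h
    · rw [← Subgroup.map_comap_eq_self_of_surjective (QuotientGroup.mk'_surjective _) (Subgroup.zpowers a),
        h, Subgroup.map_top_of_surjective _ (QuotientGroup.mk'_surjective _)]
    · exfalso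
      obtain ⟨b, rfl⟩ := QuotientGroup.mk_surjective a
      have hb : b ∈ (Subgroup.zpowers (b : ↥M ⧸ H.subgroupOf M)).comap π := Subgroup.mem_zpowers _
      rw [h] at hb
      rw [(QuotientGroup.eq_one_iff b).2 hb, orderOf_one] at ha
      exact hq.ne_one ha.symm
  show (Nat.card (↥M ⧸ H.subgroupOf M)).Prime
  rw [← orderOf_eq_card_of_forall_mem_zpowers (fun z => h1 ▸ Subgroup.mem_top z), ha]
  exact hq

end CfsgLib.Generation
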