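/-
The least subnormal supplement of a normal subgroup with perfect quotient.
-/
import Mathlib

set_option autoImplicit false

namespace CfsgLib.Generation

universe u

lemma mem_sup_of_normal {G : Type u} [Group G] {A D : Subgroup G} [D.Normal] {g : G} (h : g ∈ A ⊔ D) :
    ∃ a ∈ A, ∃ d ∈ D, g = a * d := by
  rw [← SetLike.mem_coe, Subgroup.mul_normal A D, Set.mem_mul] at h
  obtain ⟨a, ha, d, hd, e⟩ := h
  exact ⟨a, ha, d, hd, e.symm⟩

lemma exists_min_supplement {G : Type u} [Group G] [Finite G] (D : Subgroup G) [D.Normal] (n : ℕ)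
    (hn : Nat.card G ≤ n) (hperf : ⁅(⊤ : Subgroup G), (⊤ : Subgroup G)⁆ ⊔ D = ⊤) :
    ∃ B : Subgroup G, B.Normal ∧ B ⊔ D = ⊤ ∧ ∀ B' : Subgroup G, B'.IsSubnormal → B' ⊔ D = ⊤ → B ≤ B' := by
  induction n generalizing G with
  | zero => exact absurd hn (by have := Nat.card_pos (α := G); omega)
  | succ n ih =>
  set π := QuotientGroup.mk' D with hπ
  have hsurj : Function.Surjective π := QuotientGroup.mk'_surjective D
  have hiff : ∀ A : Subgroup G, A ⊔ D = ⊤ ↔ A.map π = ⊤ := by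
    intro A
    constructor
    · intro h
      rw [← Subgroup.map_top_of_surjective π hsurj, ← h, Subgroup.map_sup, QuotientGroup.map_mk'_self, sup_bot_eq]
    · intro h
      rw [sup_comm, ← QuotientGroup.comap_map_mk', ← hπ, h, Subgroup.comap_top]
  have hperfQ : ⁅(⊤ : Subgroup (G ⧸ D)), (⊤ : Subgroup (G ⧸ D))⁆ = ⊤ := by
    have h := (hiff _).1 hperf
    rwa [Subgroup.map_commutator, Subgroup.map_top_of_surjective π hsurj] at h
  -- the least normal supplement
  obtain ⟨B, ⟨hBn, hBD⟩, hBmin⟩ := (inferInstance : WellFoundedLT (Subgroup G)).wf.has_min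
    {N : Subgroup G | N.Normal ∧ N ⊔ D = ⊤} ⟨⊤, inferInstance, by simp⟩
  have hleast : ∀ N : Subgroup G, N.Normal → N ⊔ D = ⊤ → B ≤ N := by
    intro N hN hND
    have h1 : ⁅B, N⁆ ⊔ D = ⊤ := by
      rw [hiff, Subgroup.map_commutator, (hiff B).1 hBD, (hiff N).1 hND, hperfQ]
    have hle : ⁅B, N⁆ ≤ B ⊓ N := le_inf (Subgroup.commutator_le_left B N) (Subgroup.commutator_le_right B N)
    have h2 : (B ⊓ N) ⊔ D = ⊤ := top_le_iff.1 (h1 ▸ sup_le_sup_right hle D)
    by_contra h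
    exact hBmin (B ⊓ N) ⟨inferInstance, h2⟩ (inf_lt_left.2 h)
  refine ⟨B, hBn, hBD, fun B' hB' hB'D => ?_⟩
  by_cases hBtop : B' = ⊤
  · rw [hBtop]; exact le_top
  -- `B'` lies in a proper normal subgroup
  obtain ⟨K, hKn, hKne, hB'K⟩ : ∃ K : Subgroup G, K.Normal ∧ K ≠ ⊤ ∧ B' ≤ K := by
    clear hB'D
    induction hB' with
    | top => exact absurd rfl hBtop
    | step A K hAK hKs hAn ih' =>
      by_cases hK : K = ⊤
      · subst hK
        exact ⟨A, ⟨fun a ha g => hAn.conj_mem ⟨a, Subgroup.mem_top a⟩ ha ⟨g, Subgroup.mem_top g⟩⟩, hBtop, le_rfl⟩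
      · obtain ⟨L, h1, h2, h3⟩ := ih' hK
        exact ⟨L, h1, h2, hAK.trans h3⟩
  have hKD : K ⊔ D = ⊤ := top_le_iff.1 (hB'D ▸ sup_le_sup_right hB'K D)
  have hcard : Nat.card K ≤ n := by
    have h1 : Nat.card K < Nat.card G :=
      lt_of_le_of_ne (Subgroup.card_le_card_group K) (fun h => hKne ((Subgroup.card_eq_iff_eq_top K).1 h))
    omega
  -- supplements of `D ∩ K` in `K`
  have hsupK : ∀ A : Subgroup G, A ≤ K → A ⊔ D = ⊤ → A.subgroupOf K ⊔ D.subgroupOf K = ⊤ := by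
    intro A hA hAD
    rw [eq_top_iff]
    rintro ⟨k, hk⟩ -
    obtain ⟨a, ha, d, hd, e⟩ := mem_sup_of_normal (A := A) (D := D) (g := k) (hAD ▸ Subgroup.mem_top k)
    have hdK : d ∈ K := by
      have e' : d = a⁻¹ * k := by rw [e]; group
      rw [e']
      exact K.mul_mem (K.inv_mem (hA ha)) hk
    have e2 : (⟨k, hk⟩ : K) = ⟨a, hA ha⟩ * ⟨d, hdK⟩ := Subtype.ext e
    rw [e2]
    exact Subgroup.mul_mem_sup ha hd
  have hperfK : ⁅(⊤ : Subgroup K), (⊤ : Subgroup K)⁆ ⊔ D.subgroupOf K = ⊤ := by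
    have h1 : ⁅K, K⁆ ⊔ D = ⊤ := by rw [hiff, Subgroup.map_commutator, (hiff K).1 hKD, hperfQ]
    have h2 : ⁅(⊤ : Subgroup K), (⊤ : Subgroup K)⁆ = ⁅K, K⁆.subgroupOf K := by
      apply Subgroup.map_injective K.subtype_injective
      rw [Subgroup.map_commutator, ← MonoidHom.range_eq_map, Subgroup.range_subtype,
        Subgroup.map_subgroupOf_eq_of_le (Subgroup.commutator_le_self K)]
    rw [h2]
    exact hsupK _ (Subgroup.commutator_le_self K) h1
  obtain ⟨C, hCn, hCD, hCmin⟩ := ih (D.subgroupOf K) hcard hperfK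
  have hCchar : (C.map K.subtype).Normal := by
    refine ⟨?_⟩
    rintro _ ⟨c, hc, rfl⟩ g
    let e : K ≃* K := MulAut.conjNormal g
    have hsn : (C.map e.symm.toMonoidHom) ⊔ D.subgroupOf K = ⊤ := by
      have h1 := congrArg (Subgroup.map e.symm.toMonoidHom) hCD
      have hDe : (D.subgroupOf K).map e.symm.toMonoidHom = D.subgroupOf K := by
        refine Subgroup.eq_of_le_of_card_ge ?_ (le_of_eq (Subgroup.card_map_of_injective e.symm.injective).symm)
        rintro _ ⟨d, hd, rfl⟩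
        have h2 : ((e.symm d : K) : G) = g⁻¹ * (d : G) * g := by
          simp [e, MulAut.conjNormal_symm_apply]
        show ((e.symm d : K) : G) ∈ D
        rw [h2]
        simpa using ‹D.Normal›.conj_mem _ hd g⁻¹
      rwa [Subgroup.map_sup, hDe, Subgroup.map_top_of_surjective _ e.symm.surjective] at h1
    have hle := hCmin _ (hCn.map _ e.symm.surjective).isSubnormal hsn
    obtain ⟨c', hc', hcc⟩ := hle hc
    refine ⟨c', hc', ?_⟩
    rw [← hcc]
    show (c' : G) = g * ((e.symm c' : K) : G) * g⁻¹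
    simp [e, MulAut.conjNormal_symm_apply, mul_assoc]
  have hB'le : C.map K.subtype ≤ B' := by
    have h1 : C ≤ B'.subgroupOf K := hCmin _ hB'.subgroupOf (hsupK B' hB'K hB'D)
    rw [← Subgroup.map_subgroupOf_eq_of_le hB'K]
    exact Subgroup.map_mono h1
  refine (hleast _ hCchar ?_).trans hB'le
  refine top_le_iff.1 (hKD ▸ sup_le ?_ le_sup_right)
  intro k hk
  obtain ⟨c, hc, d, hd, e⟩ :=
    mem_sup_of_normal (A := C) (D := D.subgroupOf K) (g := (⟨k, hk⟩ : K)) (hCD ▸ Subgroup.mem_top _)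
  rw [show k = (c : G) * (d : G) from congrArg Subtype.val e]
  exact Subgroup.mul_mem_sup ⟨c, hc, rfl⟩ hd

end CfsgLib.Generation
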